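import Cfsg.Agent.Lib.Goldschmidt.Elem
import Cfsg.Agent.Lib.Components.PLike
import Cfsg.Agent.Lib.Coprime.PQ
import Cfsg.Agent.Lib.OddOrderTheorem.Basic

/-!
# Elementary closed sets in core-free groups (owner: helper29)

* `isPGroup_center_component` : the centre of a component of a core-free group is a 2-group
* `centralizes_component` : a member normalising a component without a non-central member centralises it
* `normalizes_component` : every member normalises every component
* `exists_noncentral` : a member acting non-trivially on a component commutes with a non-central member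
  of the component
* `core_fixes_component` : an odd subgroup normalised by the centraliser of a member, and centralised by
  it, fixes every component
* `core_centralizes_pCore` : and centralises `O₂`
-/

set_option autoImplicit false
set_option linter.unusedSectionVars false
set_option linter.style.haveILetI false
set_option linter.unusedVariables false

namespace Cfsg.Agent.Goldschmidt

open Cfsg Subgroup Cfsg.Agent.Components
open scoped commutatorElement

variable {G : Type*} [Group G] [Finite G]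

/-- The centre of a component of a core-free group, as a subgroup of the group. -/
abbrev centerOf (K : Subgroup G) : Subgroup G := (center K).map K.subtype

omit [Finite G] in
theorem mem_centerOf {K : Subgroup G} {z : G} :
    z ∈ centerOf K ↔ z ∈ K ∧ ∀ k ∈ K, k * z = z * k := by
  constructor
  · rintro ⟨y, hy, rfl⟩
    exact ⟨y.2, fun k hk => congrArg Subtype.val (mem_center_iff.1 hy ⟨k, hk⟩)⟩
  · rintro ⟨hz, hc⟩
    exact ⟨⟨z, hz⟩, mem_center_iff.2 fun k => Subtype.ext (hc k k.2), rfl⟩

omit [Finite G] in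
/-- A component is not abelian modulo its centre. -/
theorem not_le_centerOf {K : Subgroup G} (hK : Cfsg.IsComponent K) : ¬ K ≤ centerOf K := fun h =>
  IsComponent.not_le_centralizer hK fun _k hk => fun y hy => (mem_centerOf.1 (h hk)).2 y hy

theorem isPGroup_center_component (hO : pPrimeCore 2 G = ⊥) {K : Subgroup G}
    (hK : Cfsg.IsComponent K) : IsPGroup 2 ↥(center K) := by
  rintro ⟨z, hz⟩
  set n := orderOf z with hn
  obtain ⟨k, m, hm, hnm⟩ := Nat.exists_eq_two_pow_mul_odd (orderOf_pos z).ne'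
  refine ⟨k, Subtype.ext ?_⟩
  show z ^ 2 ^ k = 1
  set y := z ^ 2 ^ k with hy
  have hyc : y ∈ center K := (center K).pow_mem hz _
  haveI : (zpowers y).Normal := PGroup.zpowers_normal_of_mem_center hyc
  have hsub : ((zpowers y).map K.subtype).IsSubnormal := by
    exact IsSubnormal.trans' (Normal.isSubnormal inferInstance) hK.1
  have hcard : (Nat.card ↥((zpowers y).map K.subtype)).Coprime 2 := by
    rw [Cores.card_map_subtype, Nat.card_zpowers, hy, orderOf_pow' z (by positivity), hnm,
      Nat.gcd_eq_right (dvd_mul_right _ _), Nat.mul_div_cancel_left _ (by positivity)]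
    exact Nat.coprime_two_right.2 hm
  have hle := Cores.le_pPrimeCore_of_isSubnormal hsub hcard
  rw [hO] at hle
  have h1 : (y : G) = 1 := mem_bot.1 (hle ⟨y, mem_zpowers y, rfl⟩)
  exact Subtype.ext h1

theorem isPGroup_centerOf (hO : pPrimeCore 2 G = ⊥) {K : Subgroup G} (hK : Cfsg.IsComponent K) :
    IsPGroup 2 ↥(centerOf K) :=
  (isPGroup_center_component hO hK).map K.subtype

variable {T : Set G} (hT : Elem T)
include hT

/-- A member of a closed set which normalises a component having only central members centralises it. -/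
theorem centralizes_component (hO : pPrimeCore 2 G = ⊥) {K : Subgroup G} (hK : Cfsg.IsComponent K)
    {t : G} (ht : t ∈ T) (htK : t ∈ normalizer (K : Set G))
    (hTK : ∀ x ∈ T, x ∈ K → x ∈ centerOf K) : ∀ k ∈ K, t * k = k * t := by
  haveI : Fact (Nat.Prime 2) := ⟨Nat.prime_two⟩
  set H : Subgroup G := K ⊔ zpowers t with hH
  have hKH : K ≤ H := le_sup_left
  have htH : t ∈ H := mem_sup_right (mem_zpowers t)
  have hHK : H ≤ normalizer (K : Set G) := sup_le le_normalizer (zpowers_le.2 htK)
  haveI hK₀n : (K.subgroupOf H).Normal := normal_subgroupOf_of_le_normalizer hHK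
  set Z : Subgroup H := (centerOf K).subgroupOf H with hZ
  haveI hZn : Z.Normal := ⟨fun z hz g => by
    rw [hZ, mem_subgroupOf] at hz ⊢
    obtain ⟨hzK, hzc⟩ := mem_centerOf.1 hz
    have hg := hHK g.2
    refine mem_centerOf.2 ⟨(mem_normalizer_iff.1 hg _).1 hzK, fun k hk => ?_⟩
    have hk' : (g : G)⁻¹ * k * g ∈ K := by
      have := (mem_normalizer_iff.1 (inv_mem hg) k).1 hk
      rwa [inv_inv] at this
    have := hzc _ hk'
    calc k * ((g * z * g⁻¹ : H) : G) = (g : G) * ((g : G)⁻¹ * k * g * z) * (g : G)⁻¹ := by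
          simp [mul_assoc]
      _ = (g : G) * ((z : G) * ((g : G)⁻¹ * k * g)) * (g : G)⁻¹ := by rw [this]
      _ = ((g * z * g⁻¹ : H) : G) * k := by simp [mul_assoc]⟩
  set q := QuotientGroup.mk' Z with hq
  set N := (K.subgroupOf H).map q with hN
  haveI hNn : N.Normal := hK₀n.map _ (QuotientGroup.mk'_surjective _)
  -- `N` is the simple group `K / Z(K)`
  haveI hsimp : IsSimpleGroup (↥K ⧸ center K) := hK.2.2
  have hker : ∀ k : K, q ⟨k, hKH k.2⟩ = 1 ↔ k ∈ center K := fun k => by
    rw [hq, QuotientGroup.mk'_apply, QuotientGroup.eq_one_iff, hZ, mem_subgroupOf]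
    exact ⟨fun h => mem_center_iff.2 fun y => Subtype.ext ((mem_centerOf.1 h).2 y y.2),
      fun h => ⟨k, h, rfl⟩⟩
  have hnormal_cases : ∀ M : Subgroup (↥H ⧸ Z), M.Normal → M ≤ N → M = ⊥ ∨ M = N := by
    intro M hM hMN
    rcases IsQuasisimple.normal_eq_top_or_le_center hK.2
      ((M.comap q).comap (inclusion hKH)) with h | h
    · refine Or.inr (le_antisymm hMN ?_)
      rintro _ ⟨x, hx, rfl⟩
      exact h.ge (mem_top (⟨x, hx⟩ : K))
    · refine Or.inl ((Subgroup.eq_bot_iff_forall _).2 fun x hx => ?_)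
      obtain ⟨y, hy, rfl⟩ := hMN hx
      exact (hker ⟨y, hy⟩).2 (h (show (⟨y, hy⟩ : K) ∈ (M.comap q).comap (inclusion hKH) from hx))
  have hNodd : ¬ Odd (Nat.card N) := fun hodd => by
    let f : ↥K →* ↥N := ((q.comp (inclusion hKH)).codRestrict N fun k => ⟨⟨k, hKH k.2⟩, k.2, rfl⟩)
    haveI : Group.IsSolvable N := OddOrderTheorem.solvable hodd
    haveI : Group.IsSolvable (center K) := Group.isSolvable_of_comm fun a b => Subtype.ext
      ((mem_center_iff.1 b.2 a))
    refine IsQuasisimple.not_isSolvable hK.2 (Group.isSolvable_of_ker_le_range (center K).subtype f ?_)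
    intro k hk
    exact ⟨⟨k, (hker k).1 (congrArg Subtype.val hk)⟩, rfl⟩
  have hcore : pPrimeCore 2 (↥H ⧸ Z) = ⊥ := by
    set M := pPrimeCore 2 (↥H ⧸ Z) with hM
    haveI : M.Normal := Cores.pPrimeCore_normal 2 _
    have hModd : Odd (Nat.card M) := Nat.coprime_two_right.1 (Cores.coprime_card_pPrimeCore 2)
    have hMN : M ⊓ N = ⊥ := (hnormal_cases _ inferInstance inf_le_right).resolve_right fun e =>
      hNodd (hModd.of_dvd_nat (e ▸ Subgroup.card_dvd_of_le inf_le_left))
    refine (Subgroup.eq_bot_iff_forall _).2 fun x hx => ?_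
    obtain ⟨y, rfl⟩ := QuotientGroup.mk'_surjective Z x
    have hx2 : q y * q y ∈ N := by
      rw [← map_mul]
      refine ⟨y * y, ?_, rfl⟩
      show ((y * y : H) : G) ∈ K
      obtain ⟨a, ha, b, hb, e⟩ := (Coprime.mem_sup_iff (zpowers_le.2 htK)).1 y.2
      obtain ⟨i, rfl⟩ := mem_zpowers_iff.1 hb
      rw [Subgroup.coe_mul, ← e]
      have h2 : t ^ i * a * (t ^ i)⁻¹ ∈ K := (mem_normalizer_iff.1 (zpow_mem htK i) a).1 ha
      have h3 : t ^ i * t ^ i = 1 := by
        rw [← (Commute.refl t).mul_zpow, hT.sq t ht, one_zpow]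
      have e2 : a * t ^ i * (a * t ^ i) = a * (t ^ i * a * (t ^ i)⁻¹) * (t ^ i * t ^ i) := by group
      rw [e2, h3, mul_one]
      exact K.mul_mem ha h2
    have hx2' : q y * q y = 1 := by
      rw [← mem_bot, ← hMN]
      exact ⟨M.mul_mem hx hx, hx2⟩
    by_contra hne
    have h2 : orderOf (q y) = 2 := orderOf_eq_prime (by rw [pow_two]; exact hx2') hne
    exact Nat.not_even_iff_odd.2 hModd (even_iff_two_dvd.2 (h2 ▸ Subgroup.orderOf_dvd_natCard M hx))
  have hdisj : ∀ x ∈ q '' (H.subtype ⁻¹' T), x ∈ N → x = 1 := by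
    rintro _ ⟨x, hx, rfl⟩ ⟨y, hy, e⟩
    refine (QuotientGroup.eq_one_iff x).2 ?_
    have hxy : y⁻¹ * x ∈ Z := QuotientGroup.eq.1 e
    have hxK : (x : G) ∈ K := by
      have h1 := mul_mem (show (y : G) ∈ K from hy) (mem_centerOf.1 (mem_subgroupOf.1 hxy)).1
      simpa using h1
    exact mem_subgroupOf.2 (hTK x hx hxK)
  have hle := ClosedPair.le_centralizer_of_disjoint hcore
    ((hT.preimage H.subtype_injective).image Z).closed hdisj
  -- so `[K, t]` is central, hence trivial
  have hcomm : ∀ k ∈ K, k * t * k⁻¹ * t⁻¹ ∈ centerOf K := by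
    intro k hk
    have h1 := mem_centralizer_iff.1 (hle (subset_closure ⟨⟨t, htH⟩, ht, rfl⟩))
      (q ⟨k, hKH hk⟩) ⟨⟨k, hKH hk⟩, hk, rfl⟩
    have h2 : q (⟨k, hKH hk⟩ * ⟨t, htH⟩ * (⟨k, hKH hk⟩)⁻¹ * (⟨t, htH⟩)⁻¹) = 1 := by
      rw [map_mul, map_mul, map_mul, map_inv, map_inv, h1, mul_inv_cancel_right, mul_inv_cancel]
    exact mem_subgroupOf.1 ((QuotientGroup.eq_one_iff _).1 h2)
  have hzero : ⁅K, zpowers t⁆ = ⊥ := by
    refine commutator_eq_bot_of_perfect_of_le (IsComponent.perfect hK) (Z := centerOf K) ?_ ?_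
    · refine commutator_le.2 fun k hk s hs => ?_
      obtain ⟨i, rfl⟩ := mem_zpowers_iff.1 hs
      rcases Int.even_or_odd' i with ⟨j, rfl | rfl⟩
      · rw [zpow_mul, zpow_two, hT.sq t ht, one_zpow, commutatorElement_one_right]
        exact one_mem _
      · rw [zpow_add, zpow_mul, zpow_two, hT.sq t ht, one_zpow, one_mul, zpow_one, commutatorElement_def]
        exact hcomm k hk
    · exact commutator_eq_bot_iff_le_centralizer.2 (center_map_subtype_le_centralizer K)
  intro k hk
  exact (commutatorElement_eq_one_iff_commute.1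
    (mem_bot.1 (hzero ▸ commutator_mem_commutator hk (mem_zpowers t)))).eq.symm

/-- Every member normalises every component. -/
theorem normalizes_component (hO : pPrimeCore 2 G = ⊥) {K : Subgroup G} (hK : Cfsg.IsComponent K)
    {t : G} (ht : t ∈ T) : t ∈ normalizer (K : Set G) := by
  haveI : Fact (Nat.Prime 2) := ⟨Nat.prime_two⟩
  by_contra htn
  set L := K.map (MulAut.conj t).toMonoidHom with hLdef
  have hL : Cfsg.IsComponent L := IsComponent.conj hK t
  have hne : K ≠ L := fun e => htn (mem_normalizer_iff.2 fun k => ⟨fun hk => by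
      rw [e]; exact ⟨k, hk, rfl⟩, fun hk => by
      rw [e] at hk
      obtain ⟨y, hy, hye⟩ := hk
      exact (show y = k from mul_left_cancel (mul_right_cancel hye)) ▸ hy⟩)
  have hKL : ∀ k ∈ K, ∀ l ∈ L, Commute k l := fun k hk l hl => commutatorElement_eq_one_iff_commute.1
    (mem_bot.1 (IsComponent.commutator_eq_bot hK hL hne ▸ commutator_mem_commutator hk hl))
  have htt : ∀ k ∈ K, t * k * t ∈ L := fun k hk => ⟨k, hk, by simp [hT.inv_eq ht]⟩
  have h2 := isPGroup_centerOf hO hK
  haveI : IsSimpleGroup (↥K ⧸ center K) := hK.2.2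
  set q := QuotientGroup.mk' (center K) with hq
  -- a 2-subgroup of `K` together with `t`
  have hbig : ∀ Q : Subgroup G, IsPGroup 2 Q → Q ≤ K →
      IsPGroup 2 ↥((Q ⊔ Q.map (MulAut.conj t).toMonoidHom) ⊔ zpowers t) := by
    intro Q hQ hQK
    have hQL : Q.map (MulAut.conj t).toMonoidHom ≤ L := map_mono hQK
    have h1 : IsPGroup 2 ↥(Q ⊔ Q.map (MulAut.conj t).toMonoidHom) :=
      IsPGroup.to_sup_of_normal_right' hQ (hQ.map _) fun x hx => centralizer_le_normalizer _
        fun y hy => ((hKL x (hQK hx) y (hQL hy)).eq).symm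
    rw [sup_comm]
    refine IsPGroup.to_sup_of_normal_right' (hT.isPGroup_zpowers ht) h1 (zpowers_le.2 ?_)
    refine Coprime.mem_normalizer_of_forall fun x hx => ?_
    have hle : Q ⊔ Q.map (MulAut.conj t).toMonoidHom ≤
        (Q ⊔ Q.map (MulAut.conj t).toMonoidHom).comap (MulAut.conj t).toMonoidHom := by
      refine sup_le (fun y hy => mem_sup_right ⟨y, hy, rfl⟩) ?_
      rintro _ ⟨y, hy, rfl⟩
      refine mem_sup_left ?_
      show t * (t * y * t⁻¹) * t⁻¹ ∈ Q
      rw [show t * (t * y * t⁻¹) * t⁻¹ = (t * t) * y * (t * t)⁻¹ by group, hT.sq t ht]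
      simpa using hy
    exact hle hx
  -- members inside `K` are central
  have hTK : ∀ v ∈ T, v ∈ K → v ∈ centerOf K := fun v hv hvK => by
    have hP := hbig (zpowers v) (hT.isPGroup_zpowers hv) (zpowers_le.2 hvK)
    have hc := hT.commute hP (mem_sup_left (mem_sup_left (mem_zpowers v)))
      (mem_sup_right (mem_zpowers t)) hv ht
    have hvL : v ∈ L := by
      have h1 := htt v hvK
      rwa [← hc.eq, mul_assoc, hT.sq t ht, mul_one] at h1
    exact mem_centerOf.2 ⟨hvK, fun k hk => (hKL k hk v hvL).eq⟩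
  -- the involutions of `K / Z(K)` are isolated
  have hcent : ∀ x : ↥K ⧸ center K, x * x = 1 → x = 1 := by
    intro x hx
    by_contra hx1
    have hox : orderOf x = 2 := orderOf_eq_prime (by rw [pow_two]; exact hx) hx1
    have hiso : IsIsolatedInvolution x := by
      refine ⟨hox, fun g hg => ?_⟩
      obtain ⟨k, rfl⟩ := QuotientGroup.mk'_surjective (center K) g
      obtain ⟨u, rfl⟩ := QuotientGroup.mk'_surjective (center K) x
      have hQb : IsPGroup 2 ↥(zpowers (q u) ⊔ zpowers (q k * q u * (q k)⁻¹)) := by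
        have hx' : q k * q u * (q k)⁻¹ * (q k * q u * (q k)⁻¹) = 1 := by
          calc _ = q k * (q u * q u) * (q k)⁻¹ := by group
            _ = 1 := by rw [hx]; group
        refine IsPGroup.to_sup_of_normal_right' (ClosedPair.isPGroup_zpowers_of_sq hx)
          (ClosedPair.isPGroup_zpowers_of_sq hx') (zpowers_le.2 ?_)
        refine centralizer_le_normalizer _ ?_
        rw [zpowers_eq_closure, centralizer_closure]
        exact mem_centralizer_singleton_iff.2 hg.eq
      have hQK : IsPGroup 2 ↥((zpowers (q u) ⊔ zpowers (q k * q u * (q k)⁻¹)).comap q) :=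
        hQb.comap_of_ker_isPGroup q (by
          rw [hq, QuotientGroup.ker_mk']
          exact isPGroup_center_component hO hK)
      set Q := ((zpowers (q u) ⊔ zpowers (q k * q u * (q k)⁻¹)).comap q).map K.subtype with hQdef
      have hu1 : q u ∈ zpowers (q u) ⊔ zpowers (q k * q u * (q k)⁻¹) := mem_sup_left (mem_zpowers _)
      have hu2 : q (k * u * k⁻¹) ∈ zpowers (q u) ⊔ zpowers (q k * q u * (q k)⁻¹) := by
        rw [map_mul, map_mul, map_inv]; exact mem_sup_right (mem_zpowers _)
      have huQ : (u : G) ∈ Q := mem_map_of_mem K.subtype (mem_comap.2 hu1)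
      have hu'Q : ((k * u * k⁻¹ : K) : G) ∈ Q := mem_map_of_mem K.subtype (mem_comap.2 hu2)
      set P := (Q ⊔ Q.map (MulAut.conj t).toMonoidHom) ⊔ zpowers t with hPdef
      have hP : IsPGroup 2 P := hbig Q (hQK.map _) (map_subtype_le _)
      have hQP : Q ≤ P := le_sup_left.trans le_sup_left
      have htP : t ∈ P := mem_sup_right (mem_zpowers t)
      have hcT : (u : G)⁻¹ * t * u ∈ T := by simpa using hT.closed.conj (u : G)⁻¹ t ht
      have hw : t * ((u : G)⁻¹ * t * u) ∈ T :=
        hT.closed.mul P hP t htP _ (mul_mem (mul_mem (inv_mem (hQP huQ)) htP) (hQP huQ)) ht hcT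
      have hl : (k : G) * (t * (u : G)⁻¹ * t) * (k : G)⁻¹ = t * (u : G)⁻¹ * t := by
        rw [(hKL k k.2 _ (htt _ (K.inv_mem u.2))).eq, mul_inv_cancel_right]
      have e' : (k : G) * (t * ((u : G)⁻¹ * t * u)) * (k : G)⁻¹ =
          t * (u : G)⁻¹ * t * ((k * u * k⁻¹ : K) : G) := by
        calc _ = ((k : G) * (t * (u : G)⁻¹ * t) * (k : G)⁻¹) * ((k : G) * u * (k : G)⁻¹) := by group
          _ = _ := by rw [hl]; simp
      have hw' : t * (u : G)⁻¹ * t * ((k * u * k⁻¹ : K) : G) ∈ T := e' ▸ hT.closed.conj _ _ hw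
      have hv := hT.closed.mul P hP _ (inv_mem (mul_mem htP (mul_mem (mul_mem
          (inv_mem (hQP huQ)) htP) (hQP huQ)))) _
        (mul_mem (mul_mem (mul_mem htP (inv_mem (hQP huQ))) htP) (hQP hu'Q))
        (hT.closed.inv_mem hw) hw'
      have ev : (t * ((u : G)⁻¹ * t * u))⁻¹ * (t * (u : G)⁻¹ * t * ((k * u * k⁻¹ : K) : G)) =
          ((u⁻¹ * (k * u * k⁻¹) : K) : G) := by simp [mul_assoc]
      rw [ev] at hv
      have hc := mem_centerOf.1 (hTK _ hv (u⁻¹ * (k * u * k⁻¹) : K).2)
      have hmem : u⁻¹ * (k * u * k⁻¹) ∈ center K :=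
        mem_center_iff.2 fun y => Subtype.ext (hc.2 y y.2)
      have h1 : q u = q (k * u * k⁻¹) := QuotientGroup.eq.2 hmem
      rw [map_mul, map_mul, map_inv] at h1
      exact h1.symm
    have hcore : pPrimeCore 2 (↥K ⧸ center K) = ⊥ := by
      rcases (Cores.pPrimeCore_normal 2 (↥K ⧸ center K)).eq_bot_or_eq_top with e | e
      · exact e
      · have hodd := Nat.coprime_two_right.1 (Cores.coprime_card_pPrimeCore (G := ↥K ⧸ center K) 2)
        rw [e, Subgroup.card_top] at hodd
        exact absurd (even_iff_two_dvd.2 (hox ▸ orderOf_dvd_natCard x)) (Nat.not_even_iff_odd.2 hodd)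
    have hcen := ZStar.isolated_mem_center ZStar.uniqueInvolution hiso hcore
    rcases (inferInstance : (center (↥K ⧸ center K)).Normal).eq_bot_or_eq_top with e | e
    · exact hx1 (mem_bot.1 (e ▸ hcen))
    · haveI : Group.IsSolvable (↥K ⧸ center K) :=
        Group.isSolvable_of_comm fun a b => mem_center_iff.1 (e.ge (mem_top b)) a
      haveI : Group.IsSolvable (center K) := Group.isSolvable_of_comm fun a b => Subtype.ext
        (mem_center_iff.1 b.2 a)
      exact IsQuasisimple.not_isSolvable hK.2 (Group.isSolvable_of_ker_le_range (center K).subtype q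
        (by rw [hq, QuotientGroup.ker_mk', range_subtype]))
  have hodd : Odd (Nat.card (↥K ⧸ center K)) := by
    rw [← Nat.not_even_iff_odd, even_iff_two_dvd]
    intro hdvd
    obtain ⟨x, hx⟩ := exists_prime_orderOf_dvd_card' 2 hdvd
    have hsq : x * x = 1 := by rw [← pow_two, ← hx, pow_orderOf_eq_one]
    rw [hcent x hsq, orderOf_one] at hx
    omega
  haveI : Group.IsSolvable (↥K ⧸ center K) := OddOrderTheorem.solvable hodd
  haveI : Group.IsSolvable (center K) := Group.isSolvable_of_comm fun a b => Subtype.ext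
    (mem_center_iff.1 b.2 a)
  exact IsQuasisimple.not_isSolvable hK.2 (Group.isSolvable_of_ker_le_range (center K).subtype q
    (by rw [hq, QuotientGroup.ker_mk', range_subtype]))

/-- A member acting non-trivially on a component commutes with a non-central member of it. -/
theorem exists_noncentral (hO : pPrimeCore 2 G = ⊥) {K : Subgroup G} (hK : Cfsg.IsComponent K)
    {a : G} (ha : a ∈ T) (hne : ¬ K ≤ centralizer ({a} : Set G)) :
    ∃ v ∈ T, v ∈ K ∧ v ∉ centerOf K ∧ Commute a v := by
  haveI : Fact (Nat.Prime 2) := ⟨Nat.prime_two⟩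
  have haK := normalizes_component hT hO hK ha
  obtain ⟨v₀, hv₀, hv₀K, hv₀Z⟩ : ∃ x ∈ T, x ∈ K ∧ x ∉ centerOf K := by
    by_contra hno
    push Not at hno
    exact hne fun k hk => mem_centralizer_singleton_iff.2
      (centralizes_component hT hO hK ha haK hno k hk).symm
  set H : Subgroup G := K ⊔ zpowers a
  obtain ⟨Q, hQ⟩ := ((hT.isPGroup_zpowers ha).comap_of_injective H.subtype
    H.subtype_injective).exists_le_sylow
  obtain ⟨R, hR⟩ := ((hT.isPGroup_zpowers hv₀).comap_of_injective H.subtype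
    H.subtype_injective).exists_le_sylow
  obtain ⟨k, hk⟩ := MulAction.exists_smul_eq H R Q
  have hvQ : k * ⟨v₀, mem_sup_left hv₀K⟩ * k⁻¹ ∈ (Q : Subgroup H) := by
    rw [← hk, Sylow.coe_subgroup_smul, Coprime.mem_conj]
    simpa [mul_assoc] using hR (show (⟨v₀, mem_sup_left hv₀K⟩ : H) ∈ (zpowers v₀).comap H.subtype
      from mem_zpowers v₀)
  have hkn : (k : G) ∈ normalizer (K : Set G) := sup_le le_normalizer (zpowers_le.2 haK) k.2
  refine ⟨(k : G) * v₀ * (k : G)⁻¹, hT.closed.conj _ _ hv₀, (mem_normalizer_iff.1 hkn v₀).1 hv₀K,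
    fun hc => hv₀Z ?_, ?_⟩
  · obtain ⟨-, hzc⟩ := mem_centerOf.1 hc
    refine mem_centerOf.2 ⟨hv₀K, fun y hy => ?_⟩
    have h1 := hzc _ ((mem_normalizer_iff.1 hkn y).1 hy)
    calc y * v₀ = (k : G)⁻¹ * (((k : G) * y * (k : G)⁻¹) * ((k : G) * v₀ * (k : G)⁻¹)) * k := by group
      _ = v₀ * y := by rw [h1]; group
  · exact hT.commute (Q.isPGroup'.map H.subtype)
      ⟨⟨a, mem_sup_right (mem_zpowers a)⟩, hQ (mem_zpowers a), rfl⟩ ⟨_, hvQ, rfl⟩ ha
      (hT.closed.conj _ _ hv₀)

/-- An odd subgroup, centralised by a member and normalised by its centraliser, fixes every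
component. -/
theorem core_fixes_component (hO : pPrimeCore 2 G = ⊥) {a : G} (ha : a ∈ T) {D : Subgroup G}
    (hD : Odd (Nat.card D)) (hDa : D ≤ centralizer ({a} : Set G))
    (haD : centralizer ({a} : Set G) ≤ normalizer (D : Set G)) {K : Subgroup G}
    (hK : Cfsg.IsComponent K) : D ≤ normalizer (K : Set G) := by
  by_cases hne : K ≤ centralizer ({a} : Set G)
  · refine le_trans ?_ (centralizer_le_normalizer _)
    rw [le_centralizer_iff, ← commutator_eq_bot_iff_le_centralizer]
    exact IsComponent.commutator_solvable hK (OddOrderTheorem.solvable hD) (hne.trans haD)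
  obtain ⟨v, hv, hvK, hvZ, hav⟩ := exists_noncentral hT hO hK ha hne
  intro x hx
  by_contra hxn
  set L := K.map (MulAut.conj x).toMonoidHom
  have hL : Cfsg.IsComponent L := IsComponent.conj hK x
  have hne' : K ≠ L := fun e => hxn (mem_normalizer_iff.2 fun k => ⟨fun hk => by
      rw [e]; exact ⟨k, hk, rfl⟩, fun hk => by
      rw [e] at hk
      obtain ⟨y, hy, hye⟩ := hk
      exact (show y = k from mul_left_cancel (mul_right_cancel hye)) ▸ hy⟩)
  have hKL : ∀ k ∈ K, ∀ l ∈ L, Commute k l := fun k hk l hl => commutatorElement_eq_one_iff_commute.1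
    (mem_bot.1 (IsComponent.commutator_eq_bot hK hL hne' ▸ commutator_mem_commutator hk hl))
  have hvL : x * v * x⁻¹ ∈ L := ⟨v, hvK, rfl⟩
  have hvn : v ∈ normalizer (D : Set G) := haD (mem_centralizer_singleton_iff.2 hav.eq.symm)
  set c := v * x * v⁻¹ * x⁻¹ with hc
  have hcD : c ∈ D := D.mul_mem ((mem_normalizer_iff.1 hvn x).1 hx) (D.inv_mem hx)
  have hinv : v⁻¹ = v := hT.inv_eq hv
  have hce : c = v * (x * v * x⁻¹) := by rw [hc, hinv]; group
  have hc2 : c * c = 1 := by
    rw [hce]
    calc v * (x * v * x⁻¹) * (v * (x * v * x⁻¹))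
        = v * ((x * v * x⁻¹) * v) * (x * v * x⁻¹) := by group
      _ = v * (v * (x * v * x⁻¹)) * (x * v * x⁻¹) := by rw [(hKL v hvK _ hvL).eq]
      _ = (v * v) * (x * (v * v) * x⁻¹) := by group
      _ = 1 := by rw [hT.sq v hv]; group
  have hc1 : c = 1 := by
    by_contra h1
    have h2 : orderOf c = 2 := orderOf_eq_prime (by rw [pow_two]; exact hc2) h1
    exact Nat.not_even_iff_odd.2 hD (even_iff_two_dvd.2 (h2 ▸ Subgroup.orderOf_dvd_natCard D hcD))
  have hvv : v = x * v * x⁻¹ := by
    rw [hce] at hc1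
    calc v = v⁻¹ := hinv.symm
      _ = x * v * x⁻¹ := inv_eq_of_mul_eq_one_right hc1
  exact hvZ (mem_centerOf.2 ⟨hvK, fun k hk => (hKL k hk v (hvv.symm ▸ hvL)).eq⟩)

/-- An odd subgroup, centralised by a member and normalised by its centraliser, centralises `O₂`. -/
theorem core_centralizes_pCore {a : G} (ha : a ∈ T) {D : Subgroup G}
    (hD : Odd (Nat.card D)) (hDa : D ≤ centralizer ({a} : Set G))
    (haD : centralizer ({a} : Set G) ≤ normalizer (D : Set G)) :
    D ≤ centralizer (pCore 2 G : Set G) := by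
  haveI : Fact (Nat.Prime 2) := ⟨Nat.prime_two⟩
  haveI hn : (pCore 2 G).Normal := Cores.pCore_normal 2 G
  have hnorm : ∀ H : Subgroup G, H ≤ normalizer (pCore 2 G : Set G) := fun H => by
    rw [normalizer_eq_top]; exact le_top
  refine Coprime.thompson_pq 2 (hT.isPGroup_zpowers ha) (Nat.coprime_two_right.2 hD)
    (Cores.isPGroup_pCore 2 G) ?_ (hnorm _) (hnorm _) ?_
  · refine zpowers_le.2 fun d hd => ?_
    exact mem_centralizer_singleton_iff.1 (hDa hd)
  · rintro u ⟨hu, huc⟩
    refine mem_centralizer_iff.2 fun d hd => ?_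
    have hua : u ∈ normalizer (D : Set G) :=
      haD (mem_centralizer_singleton_iff.2 (mem_centralizer_iff.1 huc a (mem_zpowers a)).symm)
    set c := d * u * d⁻¹ * u⁻¹
    have h1 : c ∈ D := by
      have := D.mul_mem hd ((mem_normalizer_iff.1 hua _).1 (D.inv_mem hd))
      simpa [c, mul_assoc] using this
    have h2 : c ∈ pCore 2 G := (pCore 2 G).mul_mem (hn.conj_mem u hu d) ((pCore 2 G).inv_mem hu)
    have h3 : c = 1 := Coprime.eq_one_of_mem_of_mem
      (Coprime.coprime_of_isPGroup (Nat.coprime_two_right.2 hD) (Cores.isPGroup_pCore 2 G)) h1 h2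
    exact mul_inv_eq_iff_eq_mul.1 (mul_inv_eq_one.1 h3)

end Cfsg.Agent.Goldschmidt
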