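import Cfsg.Prelude.Def_TwoFusion
import Cfsg.Agent.Lib.ClosedPair.Main

/-!
# Elementary closed sets (owner: helper29)

* `Elem T` : a closed set all whose members square to one
* `Elem.commute` : members in one 2-subgroup commute
* `classSet A`, `elem_classSet` : the set of conjugates of a strongly closed elementary abelian subgroup
* `Elem.preimage`, `Elem.image` : the notion passes to subgroups and quotients
-/

set_option autoImplicit false
set_option linter.unusedSectionVars false
set_option linter.style.haveILetI false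

namespace Cfsg.Agent.Goldschmidt

open Cfsg Subgroup Cfsg.Agent.ClosedPair

variable {G : Type*} [Group G] [Finite G]

/-- A closed set of elements squaring to one. -/
structure Elem (T : Set G) : Prop where
  closed : Closed T
  sq : ∀ x ∈ T, x * x = 1

namespace Elem

variable {T : Set G} (h : Elem T)
include h

theorem inv_eq {x : G} (hx : x ∈ T) : x⁻¹ = x := inv_eq_of_mul_eq_one_right (h.sq x hx)

/-- Members inside one 2-subgroup commute. -/
theorem commute {P : Subgroup G} (hP : IsPGroup 2 P) {x y : G} (hxP : x ∈ P) (hyP : y ∈ P)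
    (hx : x ∈ T) (hy : y ∈ T) : Commute x y := by
  have hxy := h.sq _ (h.closed.mul P hP x hxP y hyP hx hy)
  calc x * y = (x * y)⁻¹ := eq_inv_of_mul_eq_one_left hxy
    _ = y * x := by rw [mul_inv_rev, h.inv_eq hx, h.inv_eq hy]

theorem isPGroup_zpowers {x : G} (hx : x ∈ T) : IsPGroup 2 (zpowers x) :=
  ClosedPair.isPGroup_zpowers_of_sq (h.sq x hx)

theorem conj_mem_iff (g : G) {x : G} : g * x * g⁻¹ ∈ T ↔ x ∈ T := h.closed.conj_iff g

theorem preimage {H : Type*} [Group H] [Finite G] {f : H →* G} (hf : Function.Injective f) :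
    Elem (f ⁻¹' T) where
  closed := h.closed.preimage hf
  sq x hx := hf (by rw [map_mul, map_one]; exact h.sq _ hx)

theorem image (N : Subgroup G) [N.Normal] : Elem (QuotientGroup.mk' N '' T) where
  closed := h.closed.image N
  sq := by
    rintro _ ⟨x, hx, rfl⟩
    rw [← map_mul, h.sq x hx, map_one]

end Elem

/-- The elements with a conjugate in `A`. -/
def classSet (A : Subgroup G) : Set G := {x | ∃ g : G, g * x * g⁻¹ ∈ A}

theorem mem_classSet_of_mem {A : Subgroup G} {x : G} (hx : x ∈ A) : x ∈ classSet A :=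
  ⟨1, by simpa using hx⟩

/-- Inside the Sylow subgroup the class set is the subgroup itself. -/
theorem mem_classSet_iff {A : Subgroup G} {S : Subgroup G} (hsc : IsStronglyClosed A S) {x : G}
    (hx : x ∈ S) : x ∈ classSet A ↔ x ∈ A := by
  refine ⟨?_, mem_classSet_of_mem⟩
  rintro ⟨g, hg⟩
  have e : g⁻¹ * (g * x * g⁻¹) * g⁻¹⁻¹ = x := by group
  have h1 := hsc.2 _ hg g⁻¹ (by rw [e]; exact hx)
  rwa [e] at h1

/-- The class set of a strongly closed elementary abelian subgroup is an elementary closed set. -/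
theorem elem_classSet (S : Sylow 2 G) {A : Subgroup G}
    (hsc : IsStronglyClosed A (S : Subgroup G)) (hA : ∀ a ∈ A, a * a = 1) :
    Elem (classSet A) := by
  haveI : Fact (Nat.Prime 2) := ⟨Nat.prime_two⟩
  have hconj : ∀ g x : G, x ∈ classSet A → g * x * g⁻¹ ∈ classSet A := by
    rintro g x ⟨k, hk⟩
    refine ⟨k * g⁻¹, ?_⟩
    rw [show k * g⁻¹ * (g * x * g⁻¹) * (k * g⁻¹)⁻¹ = k * x * k⁻¹ by group]
    exact hk
  have hsq : ∀ x ∈ classSet A, x * x = 1 := by
    rintro x ⟨g, hg⟩
    have h1 := hA _ hg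
    calc x * x = g⁻¹ * ((g * x * g⁻¹) * (g * x * g⁻¹)) * g := by group
      _ = 1 := by rw [h1]; group
  refine ⟨⟨mem_classSet_of_mem A.one_mem, hconj, fun x hx => ⟨1, by rw [pow_one, pow_two]; exact hsq x hx⟩,
    fun P hP x hxP y hyP hx hy => ?_⟩, hsq⟩
  obtain ⟨Q, hQ⟩ := hP.exists_le_sylow
  obtain ⟨g, hg⟩ := MulAction.exists_smul_eq G Q S
  have hmem : ∀ z ∈ P, g * z * g⁻¹ ∈ (S : Subgroup G) := fun z hz => by
    rw [← hg, Sylow.coe_subgroup_smul, Coprime.mem_conj]
    simpa [mul_assoc] using hQ hz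
  have hxA := (mem_classSet_iff hsc (hmem x hxP)).1 (hconj g x hx)
  have hyA := (mem_classSet_iff hsc (hmem y hyP)).1 (hconj g y hy)
  refine ⟨g, ?_⟩
  rw [show g * (x * y) * g⁻¹ = g * x * g⁻¹ * (g * y * g⁻¹) by group]
  exact A.mul_mem hxA hyA

end Cfsg.Agent.Goldschmidt
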