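import Cfsg.Agent.EqLemmas
import Cfsg.Agent.Lib.FTUse.Field
import Cfsg.Agent.Lib.Involution.IndexTwo
import Cfsg.Agent.Lib.OddOrderTheorem.Basic

/-!
# Goldschmidt: linear lemmas

`V` elementary abelian 2-group, `a ∈ V#`, `P` a complement to `⟨a⟩`.

* `transitive_of_irreducible` (L1): stabiliser transitive on `P#` + irreducible => transitive on `V#`;
* `exists_index_two` (L2): odd degree, even stabiliser with cyclic Sylow 2 => normal subgroup of index 2;
* `small_of_odd` (L3): odd transitive, `h` of order `2^n - 1` fixing only `⟨a⟩` => `n = 2`;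
* `card_eq_four_of_odd` (L4): the same with `h` transitive on `P#`;
* `isCyclic_of_normalizes` (L5): 2-groups fixing `a` and normalising `⟨h⟩` are cyclic;
* `exists_index_two_or_card_eq_four`: L2 + L4 + L5 together.
-/

set_option autoImplicit false
set_option linter.style.haveILetI false

open MulAction

namespace Cfsg.Agent.Goldschmidt.Linear

variable {V : Type*} [Group V]

theorem comm_of_sq (hV : ∀ x : V, x * x = 1) (x y : V) : x * y = y * x := by
  have h : ∀ z : V, z⁻¹ = z := fun z => inv_eq_of_mul_eq_one_right (hV z)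
  calc x * y = (x * y)⁻¹ := (h _).symm
    _ = y * x := by rw [mul_inv_rev, h, h]

/-- The additive group of `V`. -/
@[reducible] def addCommGroup (hV : ∀ x : V, x * x = 1) : AddCommGroup (Additive V) :=
  { (inferInstance : AddGroup (Additive V)) with
    add_comm := fun x y => congrArg Additive.ofMul (comm_of_sq hV x.toMul y.toMul) }

/-- Automorphisms acting on the additive group. -/
@[reducible] def actAdd (hV : ∀ x : V, x * x = 1) (D : Subgroup (MulAut V)) :
    @DistribMulAction D (Additive V) _ (addCommGroup hV).toAddMonoid :=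
  letI := addCommGroup hV
  { smul := fun d x => Additive.ofMul ((d : MulAut V) x.toMul)
    one_smul := fun _ => rfl
    mul_smul := fun _ _ _ => rfl
    smul_zero := fun d => congrArg Additive.ofMul (map_one (d : MulAut V))
    smul_add := fun d x y => congrArg Additive.ofMul (map_mul (d : MulAut V) x.toMul y.toMul) }

theorem mem_zpowers_iff (hV : ∀ x : V, x * x = 1) {a x : V} :
    x ∈ Subgroup.zpowers a ↔ x = 1 ∨ x = a := by
  refine ⟨fun h => ?_, ?_⟩
  · obtain ⟨k, rfl⟩ := h
    show a ^ k = 1 ∨ a ^ k = a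
    have hz : a ^ (2 : ℤ) = 1 := by rw [zpow_two]; exact hV a
    rcases Int.even_or_odd k with ⟨j, rfl⟩ | ⟨j, rfl⟩
    · left; rw [← two_mul, zpow_mul, hz, one_zpow]
    · right; rw [zpow_add, zpow_mul, hz, one_zpow, one_mul, zpow_one]
  · rintro (rfl | rfl)
    · exact Subgroup.one_mem _
    · exact Subgroup.mem_zpowers x

theorem mem_or_mul_mem (hV : ∀ x : V, x * x = 1) {a : V} {P : Subgroup V}
    (hsup : P ⊔ Subgroup.zpowers a = ⊤) (x : V) : x ∈ P ∨ a * x ∈ P := by
  let W : Subgroup V :=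
    { carrier := {x | x ∈ P ∨ a * x ∈ P}
      one_mem' := Or.inl P.one_mem
      mul_mem' := by
        rintro x y (hx | hx) (hy | hy)
        · exact Or.inl (P.mul_mem hx hy)
        · right
          have h := P.mul_mem hy hx
          rwa [show a * y * x = a * (x * y) by rw [mul_assoc, comm_of_sq hV y x]] at h
        · right
          have h := P.mul_mem hx hy
          rwa [mul_assoc] at h
        · left
          have h := P.mul_mem hx hy
          have e : a * x * (a * y) = x * y := by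
            rw [comm_of_sq hV a x, mul_assoc, ← mul_assoc a a, hV, one_mul]
          rwa [e] at h
      inv_mem' := by
        intro x hx
        rwa [show x⁻¹ = x from inv_eq_of_mul_eq_one_right (hV x)] }
  have hW : W = ⊤ := top_unique (hsup ▸ sup_le (fun p hp => Or.inl hp)
    ((Subgroup.zpowers_le).2 (Or.inr (by rw [hV]; exact P.one_mem))))
  exact (show x ∈ W from hW ▸ Subgroup.mem_top x)

/-- Powers fix what the automorphism fixes. -/
theorem zpow_fix {h : MulAut V} {a : V} (hha : h a = a) (k : ℤ) : (h ^ k) a = a :=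
  (Subgroup.zpow_mem (stabilizer (MulAut V) a) hha k :)

variable [Finite V]

/-- L1. -/
theorem transitive_of_irreducible (hV : ∀ x : V, x * x = 1) (N : Subgroup (MulAut V)) {a : V}
    (ha : a ≠ 1) {P : Subgroup V} (haP : a ∉ P) (hsup : P ⊔ Subgroup.zpowers a = ⊤)
    (hP4 : 4 ≤ Nat.card P)
    (hH : ∀ p ∈ P, ∀ q ∈ P, p ≠ 1 → q ≠ 1 → ∃ g ∈ N, g a = a ∧ g p = q)
    (hirr : ∀ W : Subgroup V, (∀ g ∈ N, ∀ w ∈ W, g w ∈ W) → W = ⊥ ∨ W = ⊤) :
    ∀ x y : V, x ≠ 1 → y ≠ 1 → ∃ g ∈ N, g x = y := by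
  classical
  have hdec := mem_or_mul_mem hV hsup
  have hthree : ∀ r : V, ∃ q ∈ P, q ≠ 1 ∧ q ≠ r := by
    intro r
    by_contra hcon
    push Not at hcon
    have h1 : Nat.card P ≤ Nat.card ({1, r} : Set V) :=
      Nat.card_le_card_of_injective (fun q : P => ⟨(q : V), by
        by_cases hq : (q : V) = 1
        · exact Or.inl hq
        · exact Or.inr (hcon q q.2 hq)⟩) fun q q' h => Subtype.ext (congrArg Subtype.val h :)
    have h2 : Nat.card ({1, r} : Set V) ≤ 2 := by
      rw [Nat.card_coe_set_eq]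
      exact (Set.ncard_insert_le _ _).trans (by rw [Set.ncard_singleton])
    omega
  have hPbot : P ≠ ⊥ := fun h => by rw [h, Subgroup.card_bot] at hP4; omega
  let O : V → Prop := fun x => ∃ g ∈ N, g a = x
  have hOmap : ∀ g ∈ N, ∀ x, O (g x) ↔ O x := by
    intro g hg x
    constructor
    · rintro ⟨k, hk, e⟩
      exact ⟨g⁻¹ * k, N.mul_mem (N.inv_mem hg) hk, by rw [MulAut.mul_apply, e]; simp⟩
    · rintro ⟨k, hk, e⟩
      exact ⟨g * k, N.mul_mem hg hk, by rw [MulAut.mul_apply, e]⟩
  have h1O : ¬ O 1 := by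
    rintro ⟨g, -, e⟩
    exact ha (g.injective (e.trans (map_one g).symm))
  have hfix : ¬ ∀ g ∈ N, g a = a := by
    intro hall
    rcases hirr (Subgroup.zpowers a) (fun g hg w hw => by
      rcases (mem_zpowers_iff hV).1 hw with rfl | rfl
      · rw [map_one]; exact Subgroup.one_mem _
      · rw [hall g hg]; exact Subgroup.mem_zpowers _) with h | h
    · exact ha (Subgroup.zpowers_eq_bot.1 h)
    · obtain ⟨q, hq, hq1, hqa⟩ := hthree a
      rcases (mem_zpowers_iff hV).1 (h ▸ Subgroup.mem_top q) with e | e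
      · exact hq1 e
      · exact hqa e
  have hP1 : ∀ p ∈ P, p ≠ 1 → O p → ∀ q ∈ P, q ≠ 1 → O q := by
    intro p hp hp1 hOp q hq hq1
    obtain ⟨g, hg, -, e⟩ := hH p hp q hq hp1 hq1
    rw [← e]; exact (hOmap g hg p).2 hOp
  have hP2 : ∀ p ∈ P, p ≠ 1 → O (a * p) → ∀ q ∈ P, q ≠ 1 → O (a * q) := by
    intro p hp hp1 hOp q hq hq1
    obtain ⟨g, hg, ega, e⟩ := hH p hp q hq hp1 hq1
    have := (hOmap g hg (a * p)).2 hOp
    rwa [map_mul, ega, e] at this
  have hOP : ∀ p ∈ P, p ≠ 1 → O p := by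
    by_contra hcon
    push Not at hcon
    obtain ⟨p₀, hp₀, hp₀1, hnO⟩ := hcon
    have hnoP : ∀ q ∈ P, ¬ O q := by
      intro q hq hOq
      by_cases hq1 : q = 1
      · exact h1O (hq1 ▸ hOq)
      · exact hnO (hP1 q hq hq1 hOq p₀ hp₀ hp₀1)
    obtain ⟨g, hg, hga⟩ : ∃ g ∈ N, g a ≠ a := by
      by_contra h
      push Not at h
      exact hfix h
    have hOga : O (g a) := ⟨g, hg, rfl⟩
    have hp : a * g a ∈ P := (hdec (g a)).resolve_left (fun h => hnoP _ h hOga)
    have hp1 : a * g a ≠ 1 := fun e => hga (by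
      calc g a = a * (a * g a) := by rw [← mul_assoc, hV, one_mul]
        _ = a := by rw [e, mul_one])
    have haP' : ∀ q ∈ P, O (a * q) := by
      intro q hq
      by_cases hq1 : q = 1
      · rw [hq1, mul_one]; exact ⟨1, N.one_mem, rfl⟩
      · refine hP2 _ hp hp1 ?_ q hq hq1
        rwa [← mul_assoc, hV, one_mul]
    rcases hirr P (fun k hk w hw => by
      rcases hdec (k w) with h | h
      · exact h
      · have h2 := haP' _ h
        rw [← mul_assoc, hV, one_mul] at h2
        exact absurd ((hOmap k hk w).1 h2) (hnoP w hw)) with h | h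
    · exact hPbot h
    · exact haP (h ▸ Subgroup.mem_top a)
  have hOaP : ∀ p ∈ P, p ≠ 1 → O (a * p) := by
    by_contra hcon
    push Not at hcon
    obtain ⟨p₀, hp₀, hp₀1, hnO⟩ := hcon
    have hnoA : ∀ q ∈ P, q ≠ 1 → ¬ O (a * q) := fun q hq hq1 h => hnO (hP2 q hq hq1 h p₀ hp₀ hp₀1)
    refine hfix fun g hg => ?_
    by_contra hga
    have hgaP : g a ∈ P := (hdec (g a)).resolve_right fun h => by
      refine hnoA _ h (fun e => hga ?_) ?_
      · calc g a = a * (a * g a) := by rw [← mul_assoc, hV, one_mul]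
          _ = a := by rw [e, mul_one]
      · rw [← mul_assoc, hV, one_mul]; exact ⟨g, hg, rfl⟩
    obtain ⟨q, hq, hq1, hqr⟩ := hthree (g⁻¹ a)
    have hgqP : g q ∈ P := by
      refine (hdec (g q)).resolve_right fun h => ?_
      have hOgq : O (g q) := (hOmap g hg q).2 (hOP q hq hq1)
      refine hnoA _ h (fun e => hqr ?_) ?_
      · have e' : g q = a := by
          calc g q = a * (a * g q) := by rw [← mul_assoc, hV, one_mul]
            _ = a := by rw [e, mul_one]
        rw [← e']; simp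
      · rwa [← mul_assoc, hV, one_mul]
    have hne : g (a * q) ≠ 1 := fun e => haP (by
      have e' : a * q = 1 := g.injective (e.trans (map_one g).symm)
      rw [eq_inv_of_mul_eq_one_left e']; exact P.inv_mem hq)
    have hm : g (a * q) ∈ P := by rw [map_mul]; exact P.mul_mem hgaP hgqP
    exact hnoA q hq hq1 ((hOmap g hg _).1 (hOP _ hm hne))
  have hall : ∀ x : V, x ≠ 1 → O x := by
    intro x hx
    rcases hdec x with h | h
    · exact hOP x h hx
    · by_cases e : a * x = 1
      · have : x = a := by rw [← one_mul x, ← hV a, mul_assoc, e, mul_one]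
        exact this ▸ ⟨1, N.one_mem, rfl⟩
      · have := hOaP _ h e
        rwa [← mul_assoc, hV, one_mul] at this
  intro x y hx hy
  obtain ⟨g, hg, e⟩ := hall x hx
  obtain ⟨k, hk, e'⟩ := hall y hy
  exact ⟨k * g⁻¹, N.mul_mem hk (N.inv_mem hg), by rw [MulAut.mul_apply, ← e, ← e']; simp⟩

/-- L2. -/
theorem exists_index_two {G Ω : Type*} [Group G] [Finite G] [MulAction G Ω] [Finite Ω]
    [IsPretransitive G Ω] (hodd : Odd (Nat.card Ω)) (x : Ω) (heven : Even (Nat.card (stabilizer G x)))
    (hcyc : ∀ Q : Sylow 2 (stabilizer G x), IsCyclic (Q : Subgroup (stabilizer G x))) :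
    ∃ H : Subgroup G, H.Normal ∧ H.index = 2 := by
  haveI : Fact (Nat.Prime 2) := ⟨Nat.prime_two⟩
  set S := stabilizer G x with hS
  obtain ⟨Q⟩ : Nonempty (Sylow 2 S) := inferInstance
  obtain ⟨T, hT⟩ := IsPGroup.exists_le_sylow (P := (Q : Subgroup S).map S.subtype) (Q.isPGroup'.map _)
  have hidx : Odd S.index := by rwa [hS, index_stabilizer_of_transitive G x]
  have hfac : (Nat.card G).factorization 2 = (Nat.card S).factorization 2 := by
    rw [← Subgroup.card_mul_index S, Nat.factorization_mul Nat.card_pos.ne' Subgroup.index_ne_zero_of_finite]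
    simp only [Finsupp.add_apply]
    rw [Nat.factorization_eq_zero_of_not_dvd (n := S.index) (fun h => by
      exact Nat.not_even_iff_odd.2 hidx (even_iff_two_dvd.2 h)), add_zero]
  have hcard : Nat.card ((Q : Subgroup S).map S.subtype) = Nat.card (T : Subgroup G) := by
    rw [Subgroup.card_subtype, Q.card_eq_multiplicity, T.card_eq_multiplicity, hfac]
  have heq : (Q : Subgroup S).map S.subtype = (T : Subgroup G) :=
    Subgroup.eq_of_le_of_card_ge hT hcard.ge
  haveI := hcyc Q
  have hTc : IsCyclic (T : Subgroup G) := heq ▸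
    isCyclic_of_surjective _ (((Q : Subgroup S).equivMapOfInjective S.subtype
      S.subtype_injective).surjective)
  obtain ⟨H, hH⟩ := Involution.exists_index_two
    (even_iff_two_dvd.2 ((even_iff_two_dvd.1 heven).trans (Subgroup.card_subgroup_dvd_card S))) T hTc
  exact ⟨H, Subgroup.normal_of_index_eq_two hH, hH⟩

/-- A group of automorphisms of a field with at most `2 ^ m` elements has at most `m` elements. -/
theorem card_le_exponent {K : Type*} [Field K] [Finite K] {G : Type*} [Group G] (f : G →* (K ≃+* K))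
    (hf : Function.Injective f) {m : ℕ} (hm : Nat.card K ≤ 2 ^ m) : Nat.card G ≤ m := by
  obtain ⟨p, hK⟩ := CharP.exists K
  haveI hp : Fact p.Prime := ⟨(CharP.char_is_prime_or_zero K p).resolve_right
    (fun h => by subst h; haveI := CharP.charP_to_charZero K; exact not_finite K)⟩
  letI := ZMod.algebra K p
  let g : G → (K ≃ₐ[ZMod p] K) := fun x => AlgEquiv.ofRingEquiv (f := f x) fun c =>
    RingHom.congr_fun (RingHom.ext_zmod ((f x : K →+* K).comp (algebraMap (ZMod p) K))
      (algebraMap (ZMod p) K)) c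
  have hg : Function.Injective g := fun x y h => hf (RingEquiv.ext fun z => DFunLike.congr_fun h z)
  refine (Nat.card_le_card_of_injective g hg).trans ?_
  rw [IsGalois.card_aut_eq_finrank]
  rw [Module.natCard_eq_pow_finrank (K := ZMod p), Nat.card_zmod] at hm
  exact (Nat.pow_le_pow_iff_right one_lt_two).1
    ((Nat.pow_le_pow_left hp.out.two_le _).trans hm)

theorem exists_normal_abelian {G : Type*} [Group G] [Finite G] [Nontrivial G] (h : Group.IsSolvable G) :
    ∃ F : Subgroup G, F.Normal ∧ F ≠ ⊥ ∧ ∀ f ∈ F, ∀ g ∈ F, f * g = g * f := by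
  classical
  have hex := (Group.isSolvable_def G).1 h
  have h0 : Nat.find hex ≠ 0 := fun e => by
    have := Nat.find_spec hex
    rw [e, derivedSeries_zero] at this
    exact top_ne_bot this
  obtain ⟨k, hk⟩ : ∃ k, Nat.find hex = k + 1 := Nat.exists_eq_succ_of_ne_zero h0
  refine ⟨derivedSeries G k, derivedSeries_normal _ k,
    Nat.find_min hex (by omega), fun f hf g hg => ?_⟩
  have hb := Nat.find_spec hex
  rw [hk, derivedSeries_succ] at hb
  exact (commutatorElement_eq_one_iff_mul_comm).1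
    (Subgroup.mem_bot.1 (hb ▸ Subgroup.commutator_mem_commutator hf hg))

/-- L3. -/
theorem small_of_odd (hV : ∀ x : V, x * x = 1) (N : Subgroup (MulAut V)) (hodd : Odd (Nat.card N))
    (htr : ∀ x y : V, x ≠ 1 → y ≠ 1 → ∃ g ∈ N, g x = y) {n : ℕ} (hn : 2 ≤ n)
    (hcard : Nat.card V = 2 ^ (n + 1)) {a : V} (ha : a ≠ 1) {h : MulAut V} (hhN : h ∈ N) (hha : h a = a)
    (hord : orderOf h = 2 ^ n - 1)
    (hfpf : ∀ g ∈ Subgroup.zpowers h, g ≠ 1 → ∀ x : V, g x = x → x ∈ Subgroup.zpowers a) :
    n = 2 := by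
  classical
  letI := addCommGroup hV
  letI := actAdd hV N
  haveI : Finite (MulAut V) := Finite.of_injective (fun g : MulAut V => (g : V → V)) DFunLike.coe_injective
  haveI : FaithfulSMul N (Additive V) := ⟨fun {x y} e => Subtype.ext (MulEquiv.ext fun v =>
    congrArg Additive.toMul (e (Additive.ofMul v)))⟩
  have h3 : 3 ≤ 2 ^ n - 1 := by
    have : 2 ^ 2 ≤ 2 ^ n := Nat.pow_le_pow_right two_pos hn
    omega
  haveI : Nontrivial (Additive V) := ⟨⟨Additive.ofMul a, 0, fun e => ha (congrArg Additive.toMul e)⟩⟩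
  haveI : Nontrivial N := ⟨⟨⟨h, hhN⟩, 1, fun e => by
    have : h = 1 := congrArg Subtype.val e
    rw [this, orderOf_one] at hord
    omega⟩⟩
  obtain ⟨F, hFn, hF1, hFc⟩ := exists_normal_abelian (OddOrderTheorem.solvable (G := N) hodd)
  have ht : FTUse.Transitive.SignTrans N (Additive V) := fun x y hx hy => by
    obtain ⟨g, hg, e⟩ := htr x.toMul y.toMul (fun e => hx e) (fun e => hy e)
    exact ⟨⟨g, hg⟩, Or.inl (congrArg Additive.ofMul e)⟩
  set R := FTUse.Transitive.ring F (Additive V) with hR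
  haveI : Finite (AddMonoid.End (Additive V)) := Finite.of_injective
    (fun f : AddMonoid.End (Additive V) => (f : Additive V → Additive V)) DFunLike.coe_injective
  letI : Field R := (FTUse.Transitive.isField hFc ht).toField
  have hRcard : Nat.card R ≤ 2 ^ (n + 1) := by
    rw [← hcard]
    refine Nat.card_le_card_of_injective
      (fun x : R => ((x : AddMonoid.End (Additive V)) (Additive.ofMul a)).toMul) fun x y e => ?_
    apply Subtype.ext
    refine sub_eq_zero.1 (FTUse.Transitive.eq_zero_of_apply hFc ht (sub_mem x.2 y.2)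
      (v := Additive.ofMul a) (fun e => ha (congrArg Additive.toMul e)) ?_)
    show (x : AddMonoid.End (Additive V)) _ - (y : AddMonoid.End (Additive V)) _ = 0
    exact sub_eq_zero.2 (congrArg Additive.ofMul e)
  set hN : N := ⟨h, hhN⟩
  let f : Subgroup.zpowers hN →* (R ≃+* R) :=
    FTUse.Transitive.conjAut.comp (Subgroup.zpowers hN).subtype
  have hf : Function.Injective f := by
    rw [injective_iff_map_eq_one]
    intro g hg
    by_contra hg1
    have hcen : (g : N) ∈ Subgroup.centralizer (F : Set N) :=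
      FTUse.Transitive.mem_centralizer_of_conjHom (E := Additive V) fun x => RingEquiv.congr_fun hg x
    obtain ⟨k, hk⟩ := g.2
    have hgm : ((g : N) : MulAut V) ∈ Subgroup.zpowers h := ⟨k, by
      show h ^ k = ((g : N) : MulAut V)
      rw [← hk]; rfl⟩
    have hg1' : ((g : N) : MulAut V) ≠ 1 := fun e => hg1 (Subtype.ext (Subtype.ext e))
    have hga : ((g : N) : MulAut V) a = a := by
      rw [← hk]
      show (h ^ k) a = a
      exact zpow_fix hha k
    refine hF1 (F.eq_bot_iff_forall.2 fun φ hφ => ?_)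
    have hfixa : ∀ ψ ∈ F, (ψ : MulAut V) a = a := by
      intro ψ hψ
      have h1 : ((g : N) : MulAut V) ((ψ : MulAut V) a) = (ψ : MulAut V) a := by
        have e : (ψ : N) * (g : N) = (g : N) * ψ := Subgroup.mem_centralizer_iff.1 hcen ψ hψ
        have e' := DFunLike.congr_fun (congrArg (fun z : N => (z : MulAut V)) e) a
        simp only [Subgroup.coe_mul, MulAut.mul_apply, hga] at e'
        exact e'.symm
      rcases (mem_zpowers_iff hV).1 (hfpf _ hgm hg1' _ h1) with e | e
      · exact absurd ((ψ : MulAut V).injective (e.trans (map_one _).symm)) ha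
      · exact e
    apply Subtype.ext
    apply MulEquiv.ext
    intro v
    show (φ : MulAut V) v = v
    by_cases hv : v = 1
    · rw [hv, map_one]
    · obtain ⟨d, hd, e⟩ := htr a v ha hv
      have h2 := hfixa _ (hFn.conj_mem φ hφ (⟨d, hd⟩⁻¹ : N))
      simp only [inv_inv, Subgroup.coe_mul, Subgroup.coe_inv, MulAut.mul_apply, e] at h2
      have h3 := congrArg d h2
      simpa [e] using h3
  have hle := card_le_exponent f hf hRcard
  rw [Nat.card_zpowers, ← Subgroup.orderOf_coe, hord] at hle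
  by_contra hne
  obtain ⟨j, rfl⟩ : ∃ j, n = j + 3 := ⟨n - 3, by omega⟩
  have := Nat.lt_two_pow_self (n := j)
  rw [pow_add] at hle
  norm_num at hle
  omega

/-- An element regular on the complement. -/
theorem regular_powers (hV : ∀ x : V, x * x = 1) {a : V} {P : Subgroup V}
    (hsup : P ⊔ Subgroup.zpowers a = ⊤) (hP : P ≠ ⊥) {h : MulAut V} (hha : h a = a)
    (hinv : ∀ p ∈ P, h p ∈ P)
    (hreg : ∀ p ∈ P, ∀ q ∈ P, p ≠ 1 → q ≠ 1 → ∃ k : ℕ, (h ^ k) p = q) :
    orderOf h = Nat.card P - 1 ∧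
      ∀ g ∈ Subgroup.zpowers h, g ≠ 1 → ∀ x : V, g x = x → x ∈ Subgroup.zpowers a := by
  classical
  haveI : Finite (MulAut V) := Finite.of_injective (fun g : MulAut V => (g : V → V)) DFunLike.coe_injective
  have hga : ∀ g ∈ Subgroup.zpowers h, g a = a := by
    rintro g ⟨k, rfl⟩
    exact zpow_fix hha k
  have hkey : ∀ g ∈ Subgroup.zpowers h, ∀ p ∈ P, p ≠ 1 → g p = p → g = 1 := by
    intro g hg p hp hp1 hgp
    have hPfix : ∀ q ∈ P, g q = q := by
      intro q hq
      by_cases hq1 : q = 1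
      · rw [hq1, map_one]
      · obtain ⟨k, rfl⟩ := hreg p hp q hq hp1 hq1
        obtain ⟨i, rfl⟩ := hg
        have e : h ^ i * h ^ k = h ^ k * h ^ i := ((Commute.refl h).zpow_left i).pow_right k
        calc (h ^ i) ((h ^ k) p) = (h ^ i * h ^ k) p := rfl
          _ = (h ^ k) ((h ^ i) p) := by rw [e]; rfl
          _ = (h ^ k) p := by rw [show (h ^ i) p = p from hgp]
    refine MulEquiv.ext fun x => ?_
    show g x = x
    rcases mem_or_mul_mem hV hsup x with hx | hx
    · exact hPfix x hx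
    · have := hPfix _ hx
      rw [map_mul, hga g hg] at this
      exact mul_left_cancel this
  obtain ⟨p, hp, hp1⟩ := (Subgroup.ne_bot_iff_exists_ne_one).1 hP |>
    fun ⟨x, hx⟩ => (⟨(x : V), x.2, fun e => hx (Subtype.ext e)⟩ : ∃ p ∈ P, p ≠ 1)
  have hmem : ∀ g ∈ Subgroup.zpowers h, g p ∈ P := by
    intro g hg
    obtain ⟨k, rfl⟩ := (mem_powers_iff_mem_zpowers).2 hg
    clear hg
    show (h ^ k) p ∈ P
    induction k with
    | zero => exact hp
    | succ k ih => rw [pow_succ', MulAut.mul_apply]; exact hinv _ ih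
  refine ⟨?_, fun g hg hg1 x hx => ?_⟩
  · have h1 : Nat.card (Subgroup.zpowers h) = Nat.card {q : P // q ≠ 1} := by
      refine Nat.card_congr (Equiv.ofBijective (fun g => ⟨⟨(g : MulAut V) p, hmem _ g.2⟩, fun e => ?_⟩) ?_)
      · exact hp1 ((g : MulAut V).injective ((congrArg Subtype.val e).trans (map_one _).symm))
      · constructor
        · intro g k e
          have e' : (g : MulAut V) p = (k : MulAut V) p :=
            congrArg (fun z : {q : P // q ≠ 1} => (z.1 : V)) e
          have := hkey ((k : MulAut V)⁻¹ * g) (Subgroup.mul_mem _ (Subgroup.inv_mem _ k.2) g.2) p hp hp1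
            (by rw [MulAut.mul_apply, e']; simp)
          exact Subtype.ext (inv_mul_eq_one.1 this).symm
        · rintro ⟨⟨q, hq⟩, hq1⟩
          obtain ⟨k, e⟩ := hreg p hp q hq hp1 fun e => hq1 (Subtype.ext e)
          exact ⟨⟨h ^ k, Subgroup.pow_mem _ (Subgroup.mem_zpowers h) k⟩, Subtype.ext (Subtype.ext e)⟩
    have h2 : Nat.card {q : P // q ≠ 1} + 1 = Nat.card P := by
      rw [← Finite.card_option, Nat.card_congr (Equiv.optionSubtypeNe (1 : P))]
    rw [← Nat.card_zpowers, h1]
    omega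
  · rcases mem_or_mul_mem hV hsup x with hxP | hxP
    · by_cases hx1 : x = 1
      · rw [hx1]; exact Subgroup.one_mem _
      · exact absurd (hkey g hg x hxP hx1 hx) hg1
    · by_cases hx1 : a * x = 1
      · refine (mem_zpowers_iff hV).2 (Or.inr ?_)
        rw [← one_mul x, ← hV a, mul_assoc, hx1, mul_one]
      · exact absurd (hkey g hg _ hxP hx1 (by rw [map_mul, hga g hg, hx])) hg1

/-- L4. -/
theorem card_eq_four_of_odd (hV : ∀ x : V, x * x = 1) (N : Subgroup (MulAut V))
    (hodd : Odd (Nat.card N)) (htr : ∀ x y : V, x ≠ 1 → y ≠ 1 → ∃ g ∈ N, g x = y) {a : V} (ha : a ≠ 1)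
    {P : Subgroup V} (haP : a ∉ P) (hsup : P ⊔ Subgroup.zpowers a = ⊤) (hP4 : 4 ≤ Nat.card P)
    {h : MulAut V} (hhN : h ∈ N) (hha : h a = a) (hinv : ∀ p ∈ P, h p ∈ P)
    (hreg : ∀ p ∈ P, ∀ q ∈ P, p ≠ 1 → q ≠ 1 → ∃ k : ℕ, (h ^ k) p = q) :
    Nat.card P = 4 ∧ Nat.card V = 8 := by
  classical
  have hPbot : P ≠ ⊥ := fun e => by rw [e, Subgroup.card_bot] at hP4; omega
  obtain ⟨hord, hfpf⟩ := regular_powers hV hsup hPbot hha hinv hreg
  obtain ⟨n, hn⟩ : ∃ n, Nat.card P = 2 ^ n := by
    haveI : Fact (Nat.Prime 2) := ⟨Nat.prime_two⟩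
    exact (IsPGroup.iff_card.1 (fun g => ⟨1, Subtype.ext (by
      rw [pow_one, pow_two]; exact hV g)⟩ : IsPGroup 2 P))
  have hVP : Nat.card V = 2 * Nat.card P := by
    rw [← Subgroup.card_mul_index P, mul_comm]
    congr 1
    refine (Subgroup.index_eq_two_iff).2 ⟨a, fun b => ?_⟩
    rw [comm_of_sq hV b a]
    rcases mem_or_mul_mem hV hsup b with hb | hb
    · exact Or.inr ⟨hb, fun hab => haP (by
        have := P.mul_mem hab (P.inv_mem hb)
        rwa [mul_inv_cancel_right] at this)⟩
    · exact Or.inl ⟨hb, fun h' => haP (by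
        have := P.mul_mem hb (P.inv_mem h')
        rwa [mul_inv_cancel_right] at this)⟩
  have hn2 : 2 ≤ n := by
    by_contra hlt
    have : 2 ^ n ≤ 2 ^ 1 := Nat.pow_le_pow_right two_pos (by omega)
    rw [hn] at hP4
    omega
  rw [hn] at hord
  have := small_of_odd hV N hodd htr hn2 (by rw [hVP, hn, pow_succ']) ha hhN hha hord hfpf
  subst this
  exact ⟨hn, by rw [hVP, hn]; rfl⟩

/-- L5. -/
theorem isCyclic_of_normalizes (hV : ∀ x : V, x * x = 1) {a : V} {P : Subgroup V} (haP : a ∉ P)
    (hsup : P ⊔ Subgroup.zpowers a = ⊤) (hP4 : 4 ≤ Nat.card P) {h : MulAut V} (hha : h a = a)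
    (hinv : ∀ p ∈ P, h p ∈ P)
    (hreg : ∀ p ∈ P, ∀ q ∈ P, p ≠ 1 → q ≠ 1 → ∃ k : ℕ, (h ^ k) p = q)
    (T : Subgroup (MulAut V)) (hT : IsPGroup 2 T) (hTa : ∀ t ∈ T, t a = a)
    (hTn : ∀ t ∈ T, t * h * t⁻¹ ∈ Subgroup.zpowers h) : IsCyclic T := by
  classical
  haveI : Finite (MulAut V) := Finite.of_injective (fun g : MulAut V => (g : V → V)) DFunLike.coe_injective
  haveI : Fact (Nat.Prime 2) := ⟨Nat.prime_two⟩
  -- powers of `h` preserve `P`
  have hpowP : ∀ (k : ℕ), ∀ p ∈ P, (h ^ k) p ∈ P := by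
    intro k
    induction k with
    | zero => exact fun p hp => hp
    | succ k ih => exact fun p hp => by rw [pow_succ', MulAut.mul_apply]; exact hinv _ (ih p hp)
  -- `T` preserves `P`
  have hTP : ∀ t ∈ T, ∀ p ∈ P, t p ∈ P := by
    intro t ht p hp
    by_contra hnP
    have hp1 : p ≠ 1 := fun e => hnP (by rw [e, map_one]; exact P.one_mem)
    have hall : ∀ q ∈ P, q ≠ 1 → a * t q ∈ P := by
      intro q hq hq1
      obtain ⟨k, rfl⟩ := hreg p hp q hq hp1 hq1
      obtain ⟨j, hj⟩ := (mem_powers_iff_mem_zpowers).2 (Subgroup.pow_mem _ (hTn t ht) k)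
      have e : t ((h ^ k) p) = (h ^ j) (t p) := by
        rw [show h ^ j = (t * h * t⁻¹) ^ k from hj, conj_pow]
        simp [MulAut.mul_apply]
      rw [e]
      refine (mem_or_mul_mem hV hsup _).resolve_left fun h' => hnP ?_
      have hje : (h ^ j) a = a := by
        rw [← zpow_natCast]
        exact zpow_fix hha (j : ℤ)
      have h2 := hpowP j _ ((mem_or_mul_mem hV hsup (t p)).resolve_left hnP)
      rw [map_mul, hje] at h2
      exact absurd (by have := P.mul_mem h2 (P.inv_mem h'); rwa [mul_inv_cancel_right] at this) haP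
    obtain ⟨q, hq, hq1, hqp⟩ : ∃ q ∈ P, q ≠ 1 ∧ q ≠ p := by
      by_contra hcon
      push Not at hcon
      have h1 : Nat.card P ≤ Nat.card ({1, p} : Set V) :=
        Nat.card_le_card_of_injective (fun q : P => ⟨(q : V), by
          by_cases hq : (q : V) = 1
          · exact Or.inl hq
          · exact Or.inr (hcon q q.2 hq)⟩) fun q q' h => Subtype.ext (congrArg Subtype.val h :)
      have h2 : Nat.card ({1, p} : Set V) ≤ 2 := by
        rw [Nat.card_coe_set_eq]
        exact (Set.ncard_insert_le _ _).trans (by rw [Set.ncard_singleton])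
      omega
    have hpq : p * q ≠ 1 := fun e => hqp (by
      rw [eq_comm, ← one_mul q, ← hV p, mul_assoc, e, mul_one])
    have h3 := hall (p * q) (P.mul_mem hp hq) hpq
    rw [map_mul] at h3
    have h4 := P.mul_mem (hall p hp hp1) (hall q hq hq1)
    rw [show a * t p * (a * t q) = t p * t q by
      rw [comm_of_sq hV a (t p), mul_assoc, ← mul_assoc a a, hV, one_mul]] at h4
    refine haP ?_
    have h5 := P.mul_mem h3 (P.inv_mem h4)
    rwa [← mul_assoc a, mul_assoc a, mul_inv_cancel_right] at h5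
  -- a fixed point on `P#`
  obtain ⟨p₀, hp₀, hp₀1, hfix⟩ : ∃ p ∈ P, p ≠ 1 ∧ ∀ t ∈ T, t p = p := by
    let Ω := {p : V // p ∈ P ∧ p ≠ 1}
    letI : MulAction T Ω :=
      { smul := fun t p => ⟨(t : MulAut V) p.1, hTP _ t.2 _ p.2.1,
          fun e => p.2.2 ((t : MulAut V).injective (e.trans (map_one _).symm))⟩
        one_smul := fun _ => rfl
        mul_smul := fun _ _ _ => rfl }
    have hodd : ¬ 2 ∣ Nat.card Ω := by
      have h2 : Nat.card {q : P // q ≠ 1} + 1 = Nat.card P := by
        rw [← Finite.card_option, Nat.card_congr (Equiv.optionSubtypeNe (1 : P))]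
      have h3 : Nat.card Ω = Nat.card {q : P // q ≠ 1} := Nat.card_congr
        ⟨fun p => ⟨⟨p.1, p.2.1⟩, fun e => p.2.2 (congrArg Subtype.val e)⟩,
          fun q => ⟨q.1.1, q.1.2, fun e => q.2 (Subtype.ext e)⟩, fun _ => rfl, fun _ => rfl⟩
      obtain ⟨n, hn⟩ := (IsPGroup.iff_card.1 (fun g => ⟨1, Subtype.ext (by
        rw [pow_one, pow_two]; exact hV g)⟩ : IsPGroup 2 P))
      rcases n with _ | n
      · rw [hn, pow_zero] at hP4; omega
      · rw [hn, pow_succ] at h2; omega
    obtain ⟨p, hp⟩ := hT.nonempty_fixed_point_of_prime_not_dvd_card Ω hodd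
    exact ⟨p.1, p.2.1, p.2.2, fun t ht => congrArg Subtype.val (hp ⟨t, ht⟩)⟩
  -- restriction to `P`
  let S : Subgroup (MulAut V) :=
    { carrier := {g | (∀ p, g p ∈ P ↔ p ∈ P) ∧ g * h * g⁻¹ ∈ Subgroup.zpowers h}
      one_mem' := ⟨fun _ => Iff.rfl, by
        rw [one_mul, inv_one, mul_one]; exact Subgroup.mem_zpowers h⟩
      mul_mem' := by
        rintro g k ⟨hg, hg'⟩ ⟨hk, hk'⟩
        refine ⟨fun p => (hg _).trans (hk p), ?_⟩
        obtain ⟨i, hi⟩ := hk'
        rw [show g * k * h * (g * k)⁻¹ = g * (k * h * k⁻¹) * g⁻¹ by group, ← hi]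
        show g * h ^ i * g⁻¹ ∈ _
        rw [← conj_zpow]
        exact Subgroup.zpow_mem _ hg' i
      inv_mem' := by
        rintro g ⟨hg, hg'⟩
        refine ⟨fun p => ?_, ?_⟩
        · rw [← hg]; simp
        · have hle : (Subgroup.zpowers h).map (MulAut.conj g).toMonoidHom ≤ Subgroup.zpowers h := by
            rw [MonoidHom.map_zpowers, Subgroup.zpowers_le]
            exact hg'
          have heq := Subgroup.eq_of_le_of_card_ge hle
            (Subgroup.card_map_of_injective (MulAut.conj g).injective).ge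
          obtain ⟨y, hy, e⟩ := Subgroup.mem_map.1 (heq.ge (Subgroup.mem_zpowers h))
          have e2 : g⁻¹ * h * g⁻¹⁻¹ = y := by
            rw [inv_inv]
            calc g⁻¹ * h * g = g⁻¹ * (g * y * g⁻¹) * g := by
                  rw [show g * y * g⁻¹ = h from e]
              _ = y := by group
          rw [e2]
          exact hy }
  have hhS : h ∈ S := by
    refine ⟨fun p => ⟨fun hp => ?_, hinv p⟩, by simp⟩
    obtain ⟨k, hk⟩ := (mem_powers_iff_mem_zpowers).2 (Subgroup.inv_mem _ (Subgroup.mem_zpowers h))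
    have := hpowP k _ hp
    rw [show h ^ k = h⁻¹ from hk] at this
    simpa using this
  have hTS : T ≤ S := fun t ht => ⟨fun p => ⟨fun hp => by
      have := hTP _ (T.inv_mem ht) _ hp
      simpa using this, hTP t ht p⟩, hTn t ht⟩
  have hVP : ∀ x : P, x * x = 1 := fun x => Subtype.ext (hV x)
  let r : S →* MulAut P :=
    { toFun := fun g =>
        { toFun := fun p => ⟨(g : MulAut V) p, (g.2.1 _).2 p.2⟩
          invFun := fun p => ⟨((g⁻¹ : S) : MulAut V) p, ((g⁻¹ : S).2.1 _).2 p.2⟩
          left_inv := fun p => Subtype.ext (by simp)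
          right_inv := fun p => Subtype.ext (by simp)
          map_mul' := fun p q => Subtype.ext (map_mul _ _ _) }
      map_one' := rfl
      map_mul' := fun _ _ => rfl }
  let D : Subgroup (MulAut P) := r.range
  letI := addCommGroup hVP
  letI := actAdd hVP D
  haveI : FaithfulSMul D (Additive P) := ⟨fun {x y} e => Subtype.ext (MulEquiv.ext fun v =>
    congrArg Additive.toMul (e (Additive.ofMul v)))⟩
  haveI : Nontrivial (Additive P) := ⟨⟨Additive.ofMul ⟨p₀, hp₀⟩, 0, fun e =>
    hp₀1 (congrArg (fun z : Additive P => ((Additive.toMul z : P) : V)) e)⟩⟩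
  let hD : D := r.rangeRestrict ⟨h, hhS⟩
  let F : Subgroup D := Subgroup.zpowers hD
  haveI hFn : F.Normal := by
    refine ⟨fun x hx d => ?_⟩
    obtain ⟨i, rfl⟩ := hx
    obtain ⟨_, g, rfl⟩ := d
    show _ * hD ^ i * _ ∈ F
    rw [← conj_zpow]
    refine Subgroup.zpow_mem _ ?_ i
    obtain ⟨j, hj⟩ := g.2.2
    refine ⟨j, Subtype.ext ?_⟩
    show ((hD ^ j : D) : MulAut P) = r g * r ⟨h, hhS⟩ * (r g)⁻¹
    rw [SubgroupClass.coe_zpow, ← map_inv, ← map_mul, ← map_mul]
    show r ⟨h, hhS⟩ ^ j = _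
    rw [← map_zpow]
    exact congrArg r (Subtype.ext hj)
  have hFc : ∀ f ∈ F, ∀ g ∈ F, f * g = g * f := by
    rintro _ ⟨i, rfl⟩ _ ⟨j, rfl⟩
    exact (Commute.refl hD).zpow_zpow i j
  have ht : FTUse.Transitive.SignTrans D (Additive P) := fun x y hx hy => by
    obtain ⟨k, hk⟩ := hreg _ x.toMul.2 _ y.toMul.2 (fun e => hx (Subtype.ext e))
      (fun e => hy (Subtype.ext e))
    exact ⟨⟨r (⟨h, hhS⟩ ^ k), ⟨_, rfl⟩⟩, Or.inl (congrArg Additive.ofMul (Subtype.ext hk))⟩
  haveI : Finite (AddMonoid.End (Additive P)) := Finite.of_injective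
    (fun f : AddMonoid.End (Additive P) => (f : Additive P → Additive P)) DFunLike.coe_injective
  set R := FTUse.Transitive.ring F (Additive P)
  letI : Field R := (FTUse.Transitive.isField hFc ht).toField
  let f : T →* (R ≃+* R) :=
    FTUse.Transitive.conjAut.comp (r.rangeRestrict.comp (Subgroup.inclusion hTS))
  refine (FTUse.Transitive.card_le_of_injective f ?_).1
  rw [injective_iff_map_eq_one]
  intro t hft
  have hcen : r.rangeRestrict (Subgroup.inclusion hTS t) ∈ Subgroup.centralizer (F : Set D) :=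
    FTUse.Transitive.mem_centralizer_of_conjHom (E := Additive P) fun x => RingEquiv.congr_fun hft x
  have hPfix : ∀ q ∈ P, (t : MulAut V) q = q := by
    intro q hq
    by_cases hq1 : q = 1
    · rw [hq1, map_one]
    · obtain ⟨k, rfl⟩ := hreg p₀ hp₀ q hq hp₀1 hq1
      have e := Subgroup.mem_centralizer_iff.1 hcen (hD ^ k) (Subgroup.pow_mem _ (Subgroup.mem_zpowers hD) k)
      have e' := congrArg (fun z : D => (((z : MulAut P) ⟨p₀, hp₀⟩ : P) : V)) e
      simp only [Subgroup.coe_mul, SubgroupClass.coe_pow, MulAut.mul_apply] at e'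
      rw [show (hD : MulAut P) ^ k = r (⟨h, hhS⟩ ^ k) from (map_pow r _ k).symm] at e'
      change (h ^ k) ((t : MulAut V) p₀) = (t : MulAut V) ((h ^ k) p₀) at e'
      rw [hfix _ t.2] at e'
      exact e'.symm
  refine Subtype.ext (MulEquiv.ext fun x => ?_)
  show (t : MulAut V) x = x
  rcases mem_or_mul_mem hV hsup x with hx | hx
  · exact hPfix x hx
  · have := hPfix _ hx
    rw [map_mul, hTa _ t.2] at this
    exact mul_left_cancel this

/-- L2, L4 and L5 together. -/
theorem exists_index_two_or_card_eq_four (hV : ∀ x : V, x * x = 1) (N : Subgroup (MulAut V))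
    (htr : ∀ x y : V, x ≠ 1 → y ≠ 1 → ∃ g ∈ N, g x = y) {a : V} (ha : a ≠ 1)
    {P : Subgroup V} (haP : a ∉ P) (hsup : P ⊔ Subgroup.zpowers a = ⊤) (hP4 : 4 ≤ Nat.card P)
    {h : MulAut V} (hhN : h ∈ N) (hha : h a = a) (hinv : ∀ p ∈ P, h p ∈ P)
    (hreg : ∀ p ∈ P, ∀ q ∈ P, p ≠ 1 → q ≠ 1 → ∃ k : ℕ, (h ^ k) p = q)
    (hnorm : ∀ g ∈ N, g a = a → g * h * g⁻¹ ∈ Subgroup.zpowers h) :
    (∃ H : Subgroup N, H.Normal ∧ H.index = 2) ∨
      (Odd (Nat.card N) ∧ Nat.card P = 4 ∧ Nat.card V = 8) := by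
  classical
  haveI : Finite (MulAut V) := Finite.of_injective (fun g : MulAut V => (g : V → V)) DFunLike.coe_injective
  haveI : Fact (Nat.Prime 2) := ⟨Nat.prime_two⟩
  let Ω := {x : V // x ≠ 1}
  letI : MulAction N Ω :=
    { smul := fun g x => ⟨(g : MulAut V) x.1,
        fun e => x.2 ((g : MulAut V).injective (e.trans (map_one _).symm))⟩
      one_smul := fun _ => rfl
      mul_smul := fun _ _ _ => rfl }
  haveI : IsPretransitive N Ω := ⟨fun x y => by
    obtain ⟨g, hg, e⟩ := htr x.1 y.1 x.2 y.2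
    exact ⟨⟨g, hg⟩, Subtype.ext e⟩⟩
  have hoddΩ : Odd (Nat.card Ω) := by
    obtain ⟨n, hn⟩ := (IsPGroup.iff_card.1 (fun g => ⟨1, by
      rw [pow_one, pow_two]; exact hV g⟩ : IsPGroup 2 V))
    have h2 : Nat.card Ω + 1 = Nat.card V := by
      rw [← Finite.card_option, Nat.card_congr (Equiv.optionSubtypeNe (1 : V))]
    rcases n with _ | n
    · rw [pow_zero] at hn
      exact absurd ((Nat.card_eq_one_iff_unique.1 hn).1.elim a 1) ha
    · rw [hn, pow_succ] at h2
      exact ⟨2 ^ n - 1, by have := Nat.one_le_two_pow (n := n); omega⟩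
  set x : Ω := ⟨a, ha⟩
  rcases Nat.even_or_odd (Nat.card (stabilizer N x)) with he | ho
  · refine Or.inl (exists_index_two hoddΩ x he fun Q => ?_)
    let ι : stabilizer N x →* MulAut V := N.subtype.comp (stabilizer N x).subtype
    have hι : Function.Injective ι := fun u v e => Subtype.ext (Subtype.ext e)
    haveI := isCyclic_of_normalizes hV haP hsup hP4 hha hinv hreg
      ((Q : Subgroup (stabilizer N x)).map ι) (Q.isPGroup'.map _)
      (by rintro _ ⟨u, -, rfl⟩; exact congrArg Subtype.val u.2)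
      (by rintro _ ⟨u, -, rfl⟩; exact hnorm _ u.1.2 (congrArg Subtype.val u.2))
    exact isCyclic_of_surjective _
      ((Q : Subgroup (stabilizer N x)).equivMapOfInjective ι hι).symm.surjective
  · have hodd : Odd (Nat.card N) := by
      rw [← Subgroup.card_mul_index (stabilizer N x), index_stabilizer_of_transitive N x]
      exact ho.mul hoddΩ
    exact Or.inr ⟨hodd, card_eq_four_of_odd hV N hodd htr ha haP hsup hP4 hhN hha hinv hreg⟩

end Cfsg.Agent.Goldschmidt.Linear
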